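import Cfsg.Agent.Lib.Helper44.FW.Defs

/-!
# Project FW (S3211): package [ZCOR]

From the conclusion of the `Z*`-theorem (a normal subgroup `N` of odd order containing all
`[j, g]`) to `G = C(j) O(G)`.
-/

set_option autoImplicit false

namespace Cfsg.Agent.Lib.Helper53.FW

open Cfsg.Agent.Lib.Helper44.FW

universe u

theorem pkgZCor : PkgZCor.{u} := by
  intro G _ _ j hj hex
  obtain ⟨N, hNn, hNodd, hN⟩ := hex
  have hle : N ≤ Cfsg.oddCore G := le_sSup ⟨hNn, Nat.coprime_two_right.2 hNodd⟩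
  have hj2 : j * j = 1 := by rw [← pow_two, ← hj]; exact pow_orderOf_eq_one j
  have hjinv : j⁻¹ = j := inv_eq_of_mul_eq_one_right hj2
  rw [eq_top_iff]
  intro g _
  have haN : g * j * g⁻¹ * j⁻¹ ∈ N := by
    have h1 := inv_mem (hN g)
    have e : (j * g * j⁻¹ * g⁻¹)⁻¹ = g * j * g⁻¹ * j⁻¹ := by group
    rwa [e] at h1
  have hodd : Odd (orderOf (g * j * g⁻¹ * j⁻¹)) :=
    hNodd.of_dvd_nat (Subgroup.orderOf_dvd_natCard N haN)
  obtain ⟨k, hk⟩ := hodd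
  have hmN : (g * j * g⁻¹ * j⁻¹) ^ (k + 1) ∈ N := pow_mem haN _
  have hm2 : (g * j * g⁻¹ * j⁻¹) ^ (k + 1) * (g * j * g⁻¹ * j⁻¹) ^ (k + 1) =
      g * j * g⁻¹ * j⁻¹ := by
    rw [← pow_add]
    have h1 : k + 1 + (k + 1) = orderOf (g * j * g⁻¹ * j⁻¹) + 1 := by omega
    rw [h1, pow_succ, pow_orderOf_eq_one, one_mul]
  have hja : j * (g * j * g⁻¹ * j⁻¹) * j⁻¹ = (g * j * g⁻¹ * j⁻¹)⁻¹ := by
    have h1 : (g * j * g⁻¹ * j⁻¹)⁻¹ = j * g * j⁻¹ * g⁻¹ := by group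
    have h2 : j * (g * j * g⁻¹ * j⁻¹) * j⁻¹ = j * g * j * g⁻¹ * (j⁻¹ * j⁻¹) := by group
    rw [h1, h2, hjinv, hj2, mul_one]
  have hjm : j * (g * j * g⁻¹ * j⁻¹) ^ (k + 1) * j⁻¹ = ((g * j * g⁻¹ * j⁻¹) ^ (k + 1))⁻¹ := by
    rw [← conj_pow, hja, inv_pow]
  generalize (g * j * g⁻¹ * j⁻¹) ^ (k + 1) = m at hmN hm2 hjm
  have hmj : m * j * m⁻¹ = g * j * g⁻¹ := by
    have h1 : j * m⁻¹ * j⁻¹ = m := by
      have h2 : j * m⁻¹ * j⁻¹ = (j * m * j⁻¹)⁻¹ := by group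
      rw [h2, hjm, inv_inv]
    calc m * j * m⁻¹ = m * (j * m⁻¹ * j⁻¹) * j := by group
      _ = m * m * j := by rw [h1]
      _ = g * j * g⁻¹ * j⁻¹ * j := by rw [hm2]
      _ = g * j * g⁻¹ := by group
  have hc : m⁻¹ * g ∈ Subgroup.centralizer ({j} : Set G) := by
    rw [Subgroup.mem_centralizer_iff]
    intro y hy
    rw [Set.mem_singleton_iff] at hy
    subst hy
    calc y * (m⁻¹ * g) = m⁻¹ * (m * y * m⁻¹) * g := by group
      _ = m⁻¹ * (g * y * g⁻¹) * g := by rw [hmj]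
      _ = m⁻¹ * g * y := by group
  have hg : m * (m⁻¹ * g) = g := by group
  have hfin := mul_mem
    ((le_sup_right : Cfsg.oddCore G ≤ Subgroup.centralizer ({j} : Set G) ⊔ Cfsg.oddCore G)
      (hle hmN))
    ((le_sup_left : Subgroup.centralizer ({j} : Set G) ≤
      Subgroup.centralizer ({j} : Set G) ⊔ Cfsg.oddCore G) hc)
  rwa [hg] at hfin

end Cfsg.Agent.Lib.Helper53.FW
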